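import Cfsg.Agent.Lib.CosetEnum.Defs

/-! Generated certificate. -/

set_option autoImplicit false
set_option maxRecDepth 20000

namespace Cfsg.Lib.Extra.SuzUnique.PermData

open Cfsg.Lib.CosetEnum

/-- Table data. -/
def orb0_0_0 : Tab :=
  (.leaf 0x41700009000003000001a00007c00003000016d00007800004000002d0000780000300001600000780000100005650000600000400005ab00006000003000041200005c00001000005c00005400000000069c00005000003000065b00004c0000300000320000440000000000250000400000100000010000400000000006e900003c0000400006f300003c00002000069d00003c0000100006f400003c0000000006f20000380000200005b800003400002000005e00003000002000015f00002c00004000016b00002c00002000016c00002c00001000052900002c0000000002a60000280000200005ad00002000004000062b0000200000200002a800002000000000051900001c00004000056600001c00003000051800001c0000200006ea00001c0000100005ac00001c0000000006ac0000180000300005b90000180000200006f50000180000100001a40000180000000006f100001400002000041a00001400001000012c0000140000000002a700001000003000016e00000c0000200002a900000c0000100006a500000c0000000005ba00000800003000052800000800002000012b00000800001000040600000800000000029d00000400003000003000000400001000069e00000400000000005f00000000000000000000000000000)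

/-- Table data. -/
def orb0_0 : Tab :=
  orb0_0_0

end Cfsg.Lib.Extra.SuzUnique.PermData
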