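import Cfsg.Agent.Lib.CosetEnum.Defs

/-! Generated certificate. -/

set_option autoImplicit false
set_option maxRecDepth 20000

namespace Cfsg.Lib.Extra.SuzUnique.PermData

open Cfsg.Lib.CosetEnum

/-- Table data. -/
def orb2_0_0 : Tab :=
  (.leaf 0x600000800001000002e00000400002000007f00000400000000008000000000000000000f00000000000)

/-- Table data. -/
def orb2_0 : Tab :=
  orb2_0_0

end Cfsg.Lib.Extra.SuzUnique.PermData
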