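import Cfsg.Agent.Lib.Extra.SuzUnique.PermData.TabL0
import Cfsg.Agent.Lib.Extra.SuzUnique.PermData.TabE0
import Cfsg.Agent.Lib.Extra.SuzUnique.PermData.Orb00
import Cfsg.Agent.Lib.Extra.SuzUnique.PermData.Pos00
import Cfsg.Agent.Lib.Extra.SuzUnique.PermData.Orb10
import Cfsg.Agent.Lib.Extra.SuzUnique.PermData.Pos10
import Cfsg.Agent.Lib.Extra.SuzUnique.PermData.Orb20
import Cfsg.Agent.Lib.Extra.SuzUnique.PermData.Pos20
import Cfsg.Agent.Lib.Extra.SuzUnique.PermData.Orb30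
import Cfsg.Agent.Lib.Extra.SuzUnique.PermData.Pos30
import Cfsg.Agent.Lib.Extra.SuzUnique.PermData.Orb40
import Cfsg.Agent.Lib.Extra.SuzUnique.PermData.Pos40

/-! Generated certificate. -/

set_option autoImplicit false
set_option maxRecDepth 20000

namespace Cfsg.Lib.Extra.SuzUnique.PermData

open Cfsg.Lib.CosetEnum

/-- Table. -/
def tabL : Tab :=
  tabL_0

/-- Table. -/
def tabE : Tab :=
  tabE_0

/-- Table. -/
def orb0 : Tab :=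
  orb0_0

/-- Table. -/
def pos0 : Tab :=
  pos0_0

/-- A level of the base. -/
def level0 : BaseLevel :=
  ⟨orb0, pos0, 54,
    [[2, 8, 2, 6, 0, 8, 0, 8, 0], [0, 2, 8, 0, 4, 6, 8, 0, 8, 6], [9, 8, 1, 0, 8, 5, 2], [6, 0, 6, 8, 1, 8, 0, 3, 6], [0, 2, 1, 6, 2, 6, 1, 2]]⟩

/-- Table. -/
def orb1 : Tab :=
  orb1_0

/-- Table. -/
def pos1 : Tab :=
  pos1_0

/-- A level of the base. -/
def level1 : BaseLevel :=
  ⟨orb1, pos1, 1024,
    [[0, 2, 8, 0, 4, 6, 8, 0, 8, 6], [9, 8, 1, 0, 8, 5, 2], [6, 0, 6, 8, 1, 8, 0, 3, 6], [0, 2, 1, 6, 2, 6, 1, 2]]⟩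

/-- Table. -/
def orb2 : Tab :=
  orb2_0

/-- Table. -/
def pos2 : Tab :=
  pos2_0

/-- A level of the base. -/
def level2 : BaseLevel :=
  ⟨orb2, pos2, 5,
    [[9, 8, 1, 0, 8, 5, 2], [6, 0, 6, 8, 1, 8, 0, 3, 6], [0, 2, 1, 6, 2, 6, 1, 2]]⟩

/-- Table. -/
def orb3 : Tab :=
  orb3_0

/-- Table. -/
def pos3 : Tab :=
  pos3_0

/-- A level of the base. -/
def level3 : BaseLevel :=
  ⟨orb3, pos3, 4,
    [[6, 0, 6, 8, 1, 8, 0, 3, 6], [0, 2, 1, 6, 2, 6, 1, 2]]⟩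

/-- Table. -/
def orb4 : Tab :=
  orb4_0

/-- Table. -/
def pos4 : Tab :=
  pos4_0

/-- A level of the base. -/
def level4 : BaseLevel :=
  ⟨orb4, pos4, 3,
    [[0, 2, 1, 6, 2, 6, 1, 2]]⟩

/-- The base. -/
def levels : List BaseLevel :=
  [level0, level1, level2, level3, level4]

/-- The columns of the second table as words. -/
def colWords : List (List Nat) :=
  [[3, 5, 7], [3], [9], [0, 9, 0, 5, 9], [0, 9, 5, 0, 9], [2, 3, 7, 2], [0, 2, 7, 2, 0], [0, 4, 2, 4, 2, 0], [3, 9, 1, 6, 8, 6, 1], [2, 4, 2, 8, 4, 5, 8, 2, 4, 2]]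

/-- The letters as a code followed by a word in the three generators. -/
def letterExpr : List (Nat × List Nat) :=
  [(16, [1, 0, 1, 0, 2, 1, 0, 1, 2, 0, 1, 0, 1]),
    (124, [0, 2, 0, 1, 2, 0, 1, 0, 1, 2, 1, 0, 1, 0, 2, 1]),
    (68, [1, 0, 1, 2, 0, 1, 0, 2, 1, 0, 2, 1]),
    (2, []),
    (48, [1, 2, 0, 1, 2, 1, 0, 1, 2, 1, 0, 2, 1, 2]),
    (106, []),
    (97, [1, 2, 0, 2, 1, 0, 1, 2, 0, 2, 1, 2, 0, 2]),
    (105, []),
    (75, [1, 2, 1, 0, 1, 2, 0, 2, 1, 0, 1, 2, 1]),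
    (4, [])]

end Cfsg.Lib.Extra.SuzUnique.PermData
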